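import Mathlib

set_option autoImplicit false
universe u
open CategoryTheory AlgebraicGeometry

namespace Groth.Agent.Lib.Helper6.QAff

/-- ring-theoretic core: a ring map hitting the base, a unit lifting `fb`, and numerators of
generators is surjective. -/
lemma surjective_core {R B C : Type u} [CommRing R] [CommRing B] [CommRing C]
    (ρ : R →+* B) (ψ : C →+* B) (θ : R →+* C) (hθ : ψ.comp θ = ρ)
    (fb : B) (c : C) (hc : IsUnit c) (hcf : ψ c = fb)
    (G : Set B) (hG : @Algebra.adjoin R B _ _ ρ.toAlgebra G = ⊤)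
    (hnum : ∀ g ∈ G, ∃ N : ℕ, g * fb ^ N ∈ ψ.range) :
    Function.Surjective ψ := by
  let _ := ρ.toAlgebra
  let Im : Subalgebra R B :=
    { ψ.range with
      algebraMap_mem' := fun r => ⟨θ r, by
        exact RingHom.congr_fun hθ r⟩ }
  have hGIm : G ⊆ Im := by
    intro g hg
    obtain ⟨N, d, hd⟩ := hnum g hg
    obtain ⟨ci, hci⟩ := hc.exists_right_inv
    refine ⟨d * ci ^ N, ?_⟩
    have h1 : ψ c * ψ ci = 1 := by rw [← map_mul, hci, map_one]
    rw [map_mul, map_pow, hd, mul_assoc, ← hcf, ← mul_pow, h1, one_pow, mul_one]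
  have htop : (⊤ : Subalgebra R B) ≤ Im := by
    rw [← hG]
    exact Algebra.adjoin_le hGIm
  intro b
  obtain ⟨x, hx⟩ := htop (Algebra.mem_top : b ∈ (⊤ : Subalgebra R B))
  exact ⟨x, hx⟩

end Groth.Agent.Lib.Helper6.QAff
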