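import Groth.Agent.Lib.Helper6.QAff.Core

set_option autoImplicit false
universe u
open CategoryTheory AlgebraicGeometry

namespace Groth.Agent.Lib.Helper6.QAff

variable {X S : Scheme.{u}} (π : X ⟶ S) {n : Type u} (v : n → Γ(X, ⊤))

/-- the open `W` -/
noncomputable abbrev WW (V : S.Opens) (j : n) : (𝔸(n; S)).Opens :=
  (𝔸(n; S) ↘ S) ⁻¹ᵁ V ⊓ (𝔸(n; S)).basicOpen (AffineSpace.coord S j)

lemma preimage_WW (V : S.Opens) (j : n) (hle : X.basicOpen (v j) ≤ π ⁻¹ᵁ V) :
    (AffineSpace.homOfVector π v) ⁻¹ᵁ (WW (S := S) V j) = X.basicOpen (v j) := by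
  rw [Scheme.Hom.preimage_inf, ← Scheme.Hom.comp_preimage, AffineSpace.homOfVector_over,
    Scheme.preimage_basicOpen_top, AffineSpace.homOfVector_appTop_coord]
  exact inf_eq_right.mpr hle

lemma isAffineOpen_WW (V : S.Opens) (hV : IsAffineOpen V) (j : n) :
    IsAffineOpen (WW (S := S) V j) := by
  have h1 : IsAffineOpen ((𝔸(n; S) ↘ S) ⁻¹ᵁ V) := hV.preimage _
  have := h1.basicOpen ((𝔸(n; S)).presheaf.map (homOfLE le_top).op (AffineSpace.coord S j))
  rwa [Scheme.basicOpen_res] at this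

/-- surjectivity on sections -/
lemma surjective_app (V : S.Opens) (j : n) (U : X.Opens)
    (hUeq : (AffineSpace.homOfVector π v) ⁻¹ᵁ (WW (S := S) V j) = U) (hle : U ≤ π ⁻¹ᵁ V)
    (G : Set Γ(X, U))
    (hG : @Algebra.adjoin Γ(S, V) Γ(X, U) _ _ (π.appLE V U hle).hom.toAlgebra G = ⊤)
    (hnum : ∀ g ∈ G, ∃ (N : ℕ) (j' : n),
      g * (X.presheaf.map (homOfLE le_top).op (v j)) ^ N =
        X.presheaf.map (homOfLE le_top).op (v j')) :
    Function.Surjective ((AffineSpace.homOfVector π v).app (WW (S := S) V j)) := by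
  subst hUeq
  -- restriction of coordinates
  have hcoord : ∀ j' : n, ((AffineSpace.homOfVector π v).app (WW (S := S) V j)).hom
      ((𝔸(n; S)).presheaf.map (homOfLE le_top).op (AffineSpace.coord S j')) =
        X.presheaf.map (homOfLE le_top).op (v j') := by
    intro j'
    have h1 := (AffineSpace.homOfVector π v).naturality
      (homOfLE (le_top : WW (S := S) V j ≤ ⊤)).op
    have h2 := congrArg (fun φ => φ.hom (AffineSpace.coord S j')) h1
    simp only [CommRingCat.hom_comp, RingHom.comp_apply] at h2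
    rw [h2]
    congr 1
    exact AffineSpace.homOfVector_appTop_coord π v j'
  have hcunit : IsUnit ((𝔸(n; S)).presheaf.map (homOfLE le_top).op (AffineSpace.coord S j) :
      Γ(𝔸(n; S), WW (S := S) V j)) := by
    have h1 : IsUnit ((𝔸(n; S)).presheaf.map
        (homOfLE ((𝔸(n; S)).basicOpen_le (AffineSpace.coord S j))).op (AffineSpace.coord S j)) :=
      RingedSpace.isUnit_res_basicOpen (𝔸(n; S)).toRingedSpace (AffineSpace.coord S j)
    have hle' : WW (S := S) V j ≤ (𝔸(n; S)).basicOpen (AffineSpace.coord S j) := inf_le_right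
    have h2 := h1.map ((𝔸(n; S)).presheaf.map (homOfLE hle').op).hom
    have h3 : ((𝔸(n; S)).presheaf.map (homOfLE hle').op).hom ((𝔸(n; S)).presheaf.map
        (homOfLE ((𝔸(n; S)).basicOpen_le (AffineSpace.coord S j))).op (AffineSpace.coord S j)) =
        (𝔸(n; S)).presheaf.map (homOfLE le_top).op (AffineSpace.coord S j) := by
      rw [← CommRingCat.comp_apply, ← Functor.map_comp]
      rfl
    rwa [h3] at h2
  refine surjective_core (π.appLE V _ hle).hom
    ((AffineSpace.homOfVector π v).app (WW (S := S) V j)).hom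
    ((𝔸(n; S) ↘ S).appLE V (WW (S := S) V j) inf_le_left).hom ?_ _ _ hcunit (hcoord j) G hG ?_
  · rw [← CommRingCat.hom_comp]
    congr 1
    rw [Scheme.Hom.app_eq_appLE, Scheme.Hom.appLE_comp_appLE]
    simp only [AffineSpace.homOfVector_over]
  · intro g hg
    obtain ⟨N, j', h⟩ := hnum g hg
    refine ⟨N, ?_⟩
    rw [h]
    exact ⟨_, hcoord j'⟩

/-- the restriction over `W` is a closed immersion. -/
lemma isClosedImmersion_restrict (V : S.Opens) (hV : IsAffineOpen V) (j : n) (f : Γ(X, ⊤))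
    (hf : v j = f) (hUaff : IsAffineOpen (X.basicOpen f)) (hle : X.basicOpen f ≤ π ⁻¹ᵁ V)
    (G : Set Γ(X, X.basicOpen f))
    (hG : @Algebra.adjoin Γ(S, V) Γ(X, X.basicOpen f) _ _
      (π.appLE V (X.basicOpen f) hle).hom.toAlgebra G = ⊤)
    (hnum : ∀ g ∈ G, ∃ (N : ℕ) (j' : n),
      g * (X.presheaf.map (homOfLE le_top).op f) ^ N =
        X.presheaf.map (homOfLE le_top).op (v j')) :
    IsClosedImmersion ((AffineSpace.homOfVector π v) ∣_ (WW (S := S) V j)) := by
  subst hf
  have hpre := preimage_WW π v V j hle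
  have hsurj := surjective_app π v V j _ hpre hle G hG hnum
  have h1 : IsAffine (WW (S := S) V j).toScheme := isAffineOpen_WW V hV j
  have h2 : IsAffine ((AffineSpace.homOfVector π v) ⁻¹ᵁ (WW (S := S) V j)).toScheme := by
    show IsAffineOpen _
    rw [hpre]
    exact hUaff
  apply IsClosedImmersion.of_surjective_of_isAffine
  rw [morphismRestrict_appTop]
  have key : ∀ (W' : (𝔸(n; S)).Opens), W' = WW (S := S) V j →
      Function.Surjective ((AffineSpace.homOfVector π v).app W') := by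
    rintro _ rfl
    exact hsurj
  have h3 := key ((WW (S := S) V j).ι ''ᵁ ⊤) (by simp)
  intro b
  obtain ⟨a', ha'⟩ := (ConcreteCategory.bijective_of_isIso
    (X.presheaf.map (eqToHom (image_morphismRestrict_preimage
      (AffineSpace.homOfVector π v) (WW (S := S) V j) ⊤)).op)).surjective b
  obtain ⟨a, ha⟩ := h3 a'
  exact ⟨a, (congrArg _ ha).trans ha'⟩

instance respectsRight_isImmersion :
    MorphismProperty.RespectsRight (@IsImmersion) @IsOpenImmersion where
  postcomp i hi f hf := by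
    have : IsOpenImmersion i := hi
    have : IsImmersion f := hf
    show IsImmersion (f ≫ i)
    infer_instance

theorem exists_immersion {X S : Scheme.{u}} (π : X ⟶ S) [LocallyOfFiniteType π] [X.IsQuasiAffine] :
    ∃ (n : ℕ) (i : X ⟶ 𝔸(ULift.{u} (Fin n); S)), IsImmersion i ∧
      i ≫ (𝔸(ULift.{u} (Fin n); S) ↘ S) = π := by
  classical
  have step1 : ∀ x : X, ∃ (V : S.Opens) (f : Γ(X, ⊤)), IsAffineOpen V ∧
      IsAffineOpen (X.basicOpen f) ∧ x ∈ X.basicOpen f ∧ X.basicOpen f ≤ π ⁻¹ᵁ V := by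
    intro x
    obtain ⟨_, ⟨(V : S.Opens), hV, rfl⟩, hxV, -⟩ := S.isBasis_affineOpens.exists_subset_of_mem_open
      (Set.mem_univ (π x)) isOpen_univ
    have hx : x ∈ π ⁻¹ᵁ V := hxV
    obtain ⟨_, ⟨f, hf, rfl⟩, hxf, hle⟩ :=
      (TopologicalSpace.Opens.isBasis_iff_nbhd.mp (Scheme.IsQuasiAffine.isBasis_basicOpen X)) hx
    exact ⟨V, f, hV, hf, hxf, hle⟩
  choose V f hV hU hxU hle using step1
  have hqc : IsCompact ((⊤ : X.Opens) : Set X) := by simpa using isCompact_univ
  have hqs : IsQuasiSeparated ((⊤ : X.Opens) : Set X) := by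
    have : QuasiSeparatedSpace X := inferInstance
    simpa using isQuasiSeparated_univ_iff.mpr this
  have step2 : ∀ x, ∀ g : Γ(X, X.basicOpen (f x)), ∃ (N : ℕ) (a : Γ(X, ⊤)),
      g * (X.presheaf.map (homOfLE le_top).op (f x)) ^ N =
        X.presheaf.map (homOfLE le_top).op a := by
    intro x g
    obtain ⟨N, a, h⟩ := exists_eq_pow_mul_of_isCompact_of_isQuasiSeparated X ⊤ hqc hqs (f x) g
    refine ⟨N, a, ?_⟩
    rw [mul_comm]
    exact h.symm
  choose N a hNa using step2
  have step3 : ∀ x, ∃ G : Finset Γ(X, X.basicOpen (f x)),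
      @Algebra.adjoin Γ(S, V x) Γ(X, X.basicOpen (f x)) _ _
        (π.appLE (V x) _ (hle x)).hom.toAlgebra (G : Set _) = ⊤ := by
    intro x
    have := π.finiteType_appLE (hV x) (hU x) (hle x)
    exact this.out
  choose G hG using step3
  obtain ⟨t, ht⟩ := isCompact_univ.elim_finite_subcover
    (fun x : X => ((X.basicOpen (f x) : X.Opens) : Set X)) (fun x => (X.basicOpen (f x)).2)
    (fun x _ => Set.mem_iUnion.mpr ⟨x, hxU x⟩)
  let T : Finset Γ(X, ⊤) := t.image f ∪ t.biUnion (fun x => (G x).image (a x))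
  let v : ULift.{u} (Fin T.card) → Γ(X, ⊤) := fun k => (T.equivFin.symm k.down).1
  have hv : ∀ s ∈ T, ∃ k, v k = s := fun s hs => ⟨⟨T.equivFin ⟨s, hs⟩⟩, by simp [v]⟩
  refine ⟨T.card, AffineSpace.homOfVector π v, ?_, AffineSpace.homOfVector_over π v⟩
  have hj : ∀ x : t, ∃ j, v j = f x.1 := fun x =>
    hv _ (Finset.mem_union_left _ (Finset.mem_image_of_mem f x.2))
  choose j hj using hj
  apply IsZariskiLocalAtTarget.of_range_subset_iSup (P := @IsImmersion)
    (fun x : t => WW (S := S) (V x.1) (j x))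
  · rintro _ ⟨z, rfl⟩
    obtain ⟨x, hxt, hz⟩ := Set.mem_iUnion₂.mp (ht (Set.mem_univ z))
    have hz' : z ∈ (AffineSpace.homOfVector π v) ⁻¹ᵁ (WW (S := S) (V x) (j ⟨x, hxt⟩)) := by
      rw [preimage_WW π v _ _ (by rw [hj ⟨x, hxt⟩]; exact hle x), hj ⟨x, hxt⟩]
      exact hz
    exact TopologicalSpace.Opens.mem_iSup.mpr ⟨⟨x, hxt⟩, hz'⟩
  · intro x
    have := isClosedImmersion_restrict π v (V x.1) (hV x.1) (j x) (f x.1) (hj x) (hU x.1)
      (hle x.1) (G x.1) (hG x.1) (by
        intro g hg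
        obtain ⟨j', hj'⟩ := hv (a x.1 g) (Finset.mem_union_right _
          (Finset.mem_biUnion.mpr ⟨x.1, x.2, Finset.mem_image_of_mem _ hg⟩))
        exact ⟨N x.1 g, j', by rw [hj']; exact hNa x.1 g⟩)
    infer_instance

end Groth.Agent.Lib.Helper6.QAff
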